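import Cfsg.Agent.Lib.McLInv.Data
import Cfsg.Agent.Lib.FusionExamples.McLFusion
import Cfsg.Agent.Lib.Golay.TblHom

/-!
# The conjugates of an involution fixing two points
-/

set_option autoImplicit false

namespace CfsgLib.McLInv

open Cfsg CfsgLib.Golay CfsgLib.FusionSub.Mathieu CfsgLib.Fischer2 CfsgLib.Leech
open CfsgLib.OutMathieu (compTbl mkTbl tblAt_mkTbl tblAt_lt)
open CfsgLib.GolayStructure (baseFix)

/-- A key reading all 24 entries of a table. -/
def fullKey (t : ℕ) : ℕ := (List.range 24).reverse.foldl (fun a i => 32 * a + tblAt t i) 0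

/-- The tables of the generators describe permutations of the code fixing the two points. -/
def gensOk : Bool :=
  Data.genTabs.all fun h => inM24 h && tblAt h 0 == 0 && tblAt h 23 == 23

/-- The first table is an involution fixing the two points, each later one a conjugate of an earlier one. -/
def orbitOk : Bool :=
  inM24 (Data.orb 0) && tblAt (Data.orb 0) 0 == 0 && tblAt (Data.orb 0) 23 == 23 &&
    ((List.range 24).all fun i => tblAt (Data.orb 0) (tblAt (Data.orb 0) i) == i) &&
    (List.range 1155).all fun i => i == 0 ||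
      (decide (Data.par i / 16 < i) && decide (Data.par i % 16 < Data.genTabs.length) &&
        okTbl (Data.orb i) &&
        conjTbl (Data.genTabs.getD (Data.par i % 16) 0) (Data.orb (Data.par i / 16)) (Data.orb i))

/-- The conjugates are distinct. -/
def distinctOk : Bool :=
  (List.range 1154).all fun i => decide (Data.srt i < 1155) &&
    decide (fullKey (Data.orb (Data.srt i)) < fullKey (Data.orb (Data.srt (i + 1))))

/-- The involutions of the Sylow subgroup are among the conjugates. -/
def sylowOk : Bool :=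
  certM22.tree.toList.all fun v => isIdTbl v || !(isIdTbl (compTbl v v)) ||
    (List.range 1155).any fun i => Nat.beq (Data.orb i) v

theorem gens_ok : gensOk = true := by decide +kernel
theorem orbit_ok : orbitOk = true := by decide +kernel
theorem distinct_ok : distinctOk = true := by decide +kernel
theorem srt_last : Data.srt 1154 < 1155 := by decide +kernel

theorem exists_fix {t : ℕ} (h : inM24 t = true) (h0 : tblAt t 0 = 0) (h23 : tblAt t 23 = 23) :
    ∃ g : M24, g ∈ baseFix ∧ IsTbl (g : Equiv.Perm GolayPt) t := by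
  obtain ⟨g, hg⟩ := SylCert.exists_perm h
  refine ⟨⟨g, mem_M24_of_isTbl hg h⟩, ⟨?_, ?_⟩, hg⟩
  · show g ptP = ptP
    refine idx_injective ?_
    rw [hg]
    exact h23
  · show g ptQ = ptQ
    refine idx_injective ?_
    rw [hg]
    exact h0

theorem sigma_exists : ∃ g : M24, g ∈ baseFix ∧ IsTbl (g : Equiv.Perm GolayPt) (Data.orb 0) := by
  have h := orbit_ok
  simp only [orbitOk, Bool.and_eq_true, beq_iff_eq] at h
  exact exists_fix h.1.1.1.1 h.1.1.1.2 h.1.1.2

/-- The involution. -/
noncomputable def sigma : M24 := sigma_exists.choose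

theorem sigma_mem : sigma ∈ baseFix := sigma_exists.choose_spec.1

theorem sigma_tbl : IsTbl (sigma : Equiv.Perm GolayPt) (Data.orb 0) := sigma_exists.choose_spec.2

theorem sigma_symm (p : GolayPt) :
    (sigma : Equiv.Perm GolayPt).symm p = pt (tblAt (Data.orb 0) (idx p)) := by
  have h := orbit_ok
  simp only [orbitOk, Bool.and_eq_true, List.all_eq_true, beq_iff_eq] at h
  rw [Equiv.symm_apply_eq, ← sigma_tbl p, pt_idx]
  exact idx_injective (by rw [sigma_tbl, sigma_tbl, h.1.2 _ (List.mem_range.2 (idx_lt p))])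

theorem exists_conj_orb : ∀ i, i < 1155 → ∃ g ∈ baseFix,
    IsTbl ((g * sigma * g⁻¹ : M24) : Equiv.Perm GolayPt) (Data.orb i) := by
  intro i
  induction i using Nat.strong_induction_on with
  | h i ih =>
    intro hi
    rcases Nat.eq_zero_or_pos i with rfl | hpos
    · exact ⟨1, one_mem _, by rw [one_mul, inv_one, mul_one]; exact sigma_tbl⟩
    have h := orbit_ok
    simp only [orbitOk, Bool.and_eq_true, List.all_eq_true, Bool.or_eq_true, beq_iff_eq,
      decide_eq_true_eq] at h
    obtain ⟨⟨⟨h1, h2⟩, h3⟩, h4⟩ := (h.2 i (List.mem_range.2 hi)).resolve_left (by omega)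
    obtain ⟨g, hg, hgt⟩ := ih _ h1 (by omega)
    have hG := List.all_eq_true.1 gens_ok (Data.genTabs.getD (Data.par i % 16) 0)
      (by rw [List.getD_eq_getElem _ _ h2]; exact List.getElem_mem h2)
    simp only [Bool.and_eq_true, beq_iff_eq] at hG
    obtain ⟨⟨hG1, hG2⟩, hG3⟩ := hG
    obtain ⟨a, ha, hat⟩ := exists_fix hG1 hG2 hG3
    obtain ⟨b, hb⟩ := exists_isTbl h3
    refine ⟨a * g, mul_mem ha hg, ?_⟩
    have e := hat.conj hgt hb h4
    have e2 : ((a * g * sigma * (a * g)⁻¹ : M24) : Equiv.Perm GolayPt) = b := by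
      rw [← e]; simp [mul_assoc]
    rw [e2]
    exact hb

theorem fullKey_eq {g : Equiv.Perm GolayPt} {t t' : ℕ} (h : IsTbl g t) (h' : IsTbl g t') :
    fullKey t = fullKey t' := by
  have e : ∀ i, i < 24 → tblAt t i = tblAt t' i := fun i hi => h.tblAt_eq h' hi
  simp [fullKey, List.range_succ, e]

theorem srt_lt {i : ℕ} (hi : i < 1155) : Data.srt i < 1155 := by
  rcases Nat.lt_or_ge i 1154 with h | h
  · have := List.all_eq_true.1 distinct_ok i (List.mem_range.2 h)
    simp only [Bool.and_eq_true, decide_eq_true_eq] at this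
    exact this.1
  · rw [show i = 1154 by omega]; exact srt_last

theorem fullKey_lt : ∀ d i, i + (d + 1) < 1155 →
    fullKey (Data.orb (Data.srt i)) < fullKey (Data.orb (Data.srt (i + (d + 1)))) := by
  have step : ∀ i, i < 1154 →
      fullKey (Data.orb (Data.srt i)) < fullKey (Data.orb (Data.srt (i + 1))) := fun i hi => by
    have := List.all_eq_true.1 distinct_ok i (List.mem_range.2 hi)
    simp only [Bool.and_eq_true, decide_eq_true_eq] at this
    exact this.2
  intro d
  induction d with
  | zero => exact fun i hi => step i (by omega)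
  | succ d ih => exact fun i hi => (ih i (by omega)).trans (step (i + (d + 1)) (by omega))

/-- The centraliser of the involution in the stabiliser of two points has at most 384 elements. -/
theorem card_cent_le :
    Nat.card (baseFix ⊓ Subgroup.centralizer ({sigma} : Set M24) : Subgroup M24) ≤ 384 := by
  classical
  set Z : Subgroup M24 := baseFix ⊓ Subgroup.centralizer ({sigma} : Set M24)
  have hex : ∀ i : Fin 1155, ∃ g ∈ baseFix,
      IsTbl ((g * sigma * g⁻¹ : M24) : Equiv.Perm GolayPt) (Data.orb (Data.srt i)) :=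
    fun i => exists_conj_orb _ (srt_lt i.2)
  choose g hg hgt using hex
  let φ : Fin 1155 × Z → baseFix := fun x => ⟨g x.1 * x.2.1, mul_mem (hg x.1) x.2.2.1⟩
  have hφ : Function.Injective φ := by
    rintro ⟨i, a⟩ ⟨j, b⟩ h
    have e : g i * (a : M24) = g j * (b : M24) := congrArg Subtype.val h
    have key : ∀ c : Z, (c : M24) * sigma * (c : M24)⁻¹ = sigma := fun c => by
      rw [Subgroup.mem_centralizer_singleton_iff.1 c.2.2, mul_inv_cancel_right]
    have e2 : g i * sigma * (g i)⁻¹ = g j * sigma * (g j)⁻¹ := by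
      calc g i * sigma * (g i)⁻¹ = g i * ((a : M24) * sigma * (a : M24)⁻¹) * (g i)⁻¹ := by rw [key a]
        _ = (g i * a) * sigma * (g i * a)⁻¹ := by group
        _ = (g j * b) * sigma * (g j * b)⁻¹ := by rw [e]
        _ = g j * ((b : M24) * sigma * (b : M24)⁻¹) * (g j)⁻¹ := by group
        _ = _ := by rw [key b]
    have hk := fullKey_eq (hgt i) (e2 ▸ hgt j)
    have hij : i = j := by
      rcases lt_trichotomy (i : ℕ) j with hlt | heq | hlt
      · obtain ⟨d, hd⟩ := Nat.exists_eq_add_of_lt hlt
        have := fullKey_lt d i (by omega)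
        rw [show (i : ℕ) + (d + 1) = j by omega, ← hk] at this
        exact absurd this (lt_irrefl _)
      · exact Fin.ext heq
      · obtain ⟨d, hd⟩ := Nat.exists_eq_add_of_lt hlt
        have := fullKey_lt d j (by omega)
        rw [show (j : ℕ) + (d + 1) = i by omega, hk] at this
        exact absurd this (lt_irrefl _)
    subst hij
    exact Prod.ext rfl (Subtype.ext (mul_left_cancel e))
  have := Nat.card_le_card_of_injective φ hφ
  rw [Nat.card_prod, Nat.card_fin, show Nat.card baseFix = 443520 from
    card_stabilizer_two ptP_ne_ptQ] at this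
  omega

theorem sylow_ok : sylowOk = true := by decide +kernel

/-- Every involution of the Sylow subgroup is conjugate to the involution. -/
theorem conj_of_mem_grp {y : M24} (hy : (y : Equiv.Perm GolayPt) ∈ certM22.grp) (h2 : y * y = 1)
    (hne : y ≠ 1) : ∃ g ∈ baseFix, g * sigma * g⁻¹ = y := by
  obtain ⟨v, hv, hyv⟩ := (SylCert.mem_grp_iff certM22_els _).1 hy
  have h := List.all_eq_true.1 sylow_ok v hv
  simp only [Bool.or_eq_true, Bool.not_eq_true', List.any_eq_true, List.mem_range] at h
  rcases h with (h | h) | ⟨i, hi, h⟩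
  · exact absurd (Subtype.ext (hyv.isIdTbl_iff.1 h)) hne
  · exfalso
    have hlt : ∀ i, i < 24 → tblAt v i < 24 := fun i hi => by
      rw [← idx_pt hi, ← hyv]; exact idx_lt _
    have hc : IsTbl ((y : Equiv.Perm GolayPt) * y) (compTbl v v) := fun p => by
      rw [Equiv.Perm.mul_apply, hyv, hyv, compTbl,
        tblAt_mkTbl 24 _ (idx_lt p) fun j _ => tblAt_lt v _]
    have h1 : isIdTbl (compTbl v v) = true :=
      hc.isIdTbl_iff.2 (by rw [← Subgroup.coe_mul, h2, Subgroup.coe_one])
    rw [h1] at h
    simp at h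
  · obtain ⟨g, hg, hgt⟩ := exists_conj_orb i hi
    rw [Nat.eq_of_beq_eq_true h] at hgt
    exact ⟨g, hg, Subtype.ext (hgt.ext hyv)⟩

end CfsgLib.McLInv
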