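import Cfsg.Agent.Lib.McLInv.Perms
import Cfsg.Agent.Lib.Leech.StabOrders

/-!
# The centraliser of an involution in the stabiliser of a triangle

It has at most `105 · 384` elements, and contains a double cover of the alternating group of
degree 8.
-/

set_option autoImplicit false

namespace CfsgLib.McLInv

open Cfsg CfsgLib.Fischer2 CfsgLib.Leech
open CfsgLib.Golay (idx pt idx_pt pt_idx idx_lt)
open CfsgLib.GolayStructure (baseFix triGroup vecU coordVec_vecU coordVec_baseP leech_ext)
open scoped Pointwise commutatorElement

/-- The image of a list under a matrix, divided by eight. -/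
def ap8 (M : List (List ℤ)) (L : List ℤ) : List ℤ := (applyM M L).map (· / 8)

theorem length_ap8 {M : List (List ℤ)} (h : matOk M = true) (L : List ℤ) :
    (ap8 M L).length = 24 := by
  simp only [matOk, Bool.and_eq_true, decide_eq_true_eq] at h
  simp [ap8, applyM, h.1.1.1]

theorem coordVec_smul_list {M : List (List ℤ)} (h : matOk M = true) {x : leechLattice} {L : List ℤ}
    (hl : L.length = 24) (hx : toVec L = coordVec x) :
    toVec (ap8 M L) = coordVec (matAut M h • x) := by
  have h' := h
  simp only [matOk, Bool.and_eq_true, List.all_eq_true, decide_eq_true_eq] at h'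
  funext p
  rw [coordVec_matAut, matAct, ← hx, matApply_toVec h'.1.1.1 h'.1.1.2 hl, toVec, toVec]
  rw [ap8, List.getD_eq_getElem _ _ (by simp [applyM, h'.1.1.1, idx_lt]),
    List.getD_eq_getElem _ _ (by simp [applyM, h'.1.1.1, idx_lt]), List.getElem_map]

theorem coordVec_add' (x y : leechLattice) : coordVec (x + y) = coordVec x + coordVec y := rfl

/-- Automorphisms agreeing on the generating list are equal. -/
theorem co0_eq_of_gens {g h : Co0}
    (e : ∀ L ∈ gensList, ∀ x : leechLattice, coordVec x = toVec L → g • x = h • x) : g = h := by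
  have key : ∀ y : GolayPt → ℤ, y ∈ gensSpan → ∀ hy : y ∈ leechLattice,
      g • (⟨y, hy⟩ : leechLattice) = h • ⟨y, hy⟩ := by
    intro y hy
    refine AddSubgroup.closure_induction (p := fun z _ => ∀ hz : z ∈ leechLattice,
      g • (⟨z, hz⟩ : leechLattice) = h • ⟨z, hz⟩) ?_ ?_ ?_ ?_ hy
    · rintro z ⟨L, hL, rfl⟩ hz; exact e L hL _ rfl
    · intro hz
      have h0 : ∀ k : Co0, k • (0 : leechLattice) = 0 := fun k => by
        have := smul_add_co0 k 0 0
        rwa [add_zero, left_eq_add] at this
      rw [show (⟨0, hz⟩ : leechLattice) = 0 from rfl, h0, h0]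
    · intro a b ha hb iha ihb hz
      have ha' : a ∈ leechLattice := by
        refine (show gensSpan ≤ leechLattice from (AddSubgroup.closure_le _).2 ?_) ha
        rintro z ⟨L, hL, rfl⟩
        exact toVec_mem ((show ∀ L ∈ gensList, memTest L = true by decide +kernel) L hL)
      have hb' : b ∈ leechLattice := by
        have := leechLattice.sub_mem hz ha'
        rwa [add_sub_cancel_left] at this
      rw [show (⟨a + b, hz⟩ : leechLattice) = ⟨a, ha'⟩ + ⟨b, hb'⟩ from rfl, smul_add_co0,
        smul_add_co0, iha ha', ihb hb']
    · intro a ha iha hz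
      have ha' : a ∈ leechLattice := by simpa using leechLattice.neg_mem hz
      rw [show (⟨-a, hz⟩ : leechLattice) = -⟨a, ha'⟩ from rfl, smul_neg_co0, smul_neg_co0, iha ha']
  exact co0_ext fun v p => by
    have := key (coordVec v) (mem_gensSpan v.2) v.2
    exact congrFun (congrArg coordVec this) p

/-- The two products act in the same way on the generating list. -/
def sameOn (A B C D : List (List ℤ)) : Bool :=
  gensList.all fun L => ap8 A (ap8 B L) == ap8 C (ap8 D L)

theorem mul_eq_of_sameOn {A B C D : List (List ℤ)} (hA : matOk A = true) (hB : matOk B = true)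
    (hC : matOk C = true) (hD : matOk D = true) (h : sameOn A B C D = true) :
    matAut A hA * matAut B hB = matAut C hC * matAut D hD := by
  refine co0_eq_of_gens fun L hL x hx => ?_
  have hl := length_gensList_mem hL
  have h1 := List.all_eq_true.1 h L hL
  rw [beq_iff_eq] at h1
  rw [mul_smul, mul_smul]
  refine leech_ext fun p => ?_
  rw [← coordVec_smul_list hA (length_ap8 hB L) (coordVec_smul_list hB hl hx.symm),
    ← coordVec_smul_list hC (length_ap8 hD L) (coordVec_smul_list hD hl hx.symm), h1]

theorem matOk_T : matOk Data.matT = true := by decide +kernel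

/-- The involution. -/
noncomputable def invT : Co0 := matAut Data.matT matOk_T

theorem invT_eq : invT = permAut sigma := by
  refine co0_eq_of_gens fun L hL x hx => leech_ext fun p => ?_
  have hl := length_gensList_mem hL
  rw [invT, ← coordVec_smul_list matOk_T hl hx.symm, coordVec_permAut, hx, sigma_symm]
  revert p
  exact (show ∀ L ∈ gensList, ∀ p : GolayPt, toVec (ap8 Data.matT L) p =
    toVec L (pt (Golay.tblAt (Data.orb 0) (idx p))) by decide +kernel) L hL

/-- The identity matrix, times eight. -/
def matOne : List (List ℤ) :=
  (List.range 24).map fun r => (List.range 24).map fun c => if r = c then 8 else 0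

theorem matOk_one : matOk matOne = true := by decide +kernel

theorem matAut_one : matAut matOne matOk_one = 1 := by
  refine co0_eq_of_gens fun L hL x hx => leech_ext fun p => ?_
  rw [one_smul, ← coordVec_smul_list matOk_one (length_gensList_mem hL) hx.symm, hx]
  revert p
  exact (show ∀ L ∈ gensList, ∀ p : GolayPt, toVec (ap8 matOne L) p = toVec L p by decide +kernel) L hL

theorem invT_mul_self : invT * invT = 1 := by
  rw [← mul_one (1 : Co0), ← matAut_one]
  exact mul_eq_of_sameOn _ _ _ _ (by decide +kernel)

theorem invT_ne_one : invT ≠ 1 := by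
  intro e
  have h : (fun p => coordVec (axisVec (pt 1)) p) = fun p => coordVec (axisVec (pt 1)) p := rfl
  obtain ⟨i, hi, hne⟩ : ∃ i, i < 24 ∧ Golay.tblAt (Data.orb 0) i ≠ i := by
    refine (show ∃ i < 24, Golay.tblAt (Data.orb 0) i ≠ i by decide +kernel)
  have h1 := congrArg (fun g : Co0 => coordVec (g • axisVec (pt i)) (pt i)) e
  rw [invT_eq] at h1
  simp only [coordVec_permAut, one_smul, coordVec_axisVec, sigma_symm, idx_pt hi] at h1
  rw [if_pos trivial, if_neg (fun c => hne ?_)] at h1
  · norm_num at h1
  · have hlt : Golay.tblAt (Data.orb 0) i < 24 := by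
      rw [← idx_pt hi, ← sigma_tbl]; exact idx_lt _
    rw [← idx_pt hlt, c, idx_pt hi]

/-! ### The centraliser -/

/-- The group. -/
noncomputable abbrev mclGroup : Subgroup Co0 := triGroup baseP

/-- The centraliser of the involution. -/
noncomputable def centT : Subgroup Co0 := mclGroup ⊓ Subgroup.centralizer {invT}

/-- The second vector of the pair of minimal vectors. -/
def listB' : List ℤ := -3 :: List.replicate 23 1

theorem coord_sub_base : toVec listB' = coordVec vecU - coordVec baseP := by
  funext p
  rw [Pi.sub_apply, coordVec_vecU, coordVec_baseP]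
  revert p
  decide +kernel

theorem coordVec_baseM' (p : GolayPt) : coordVec baseM p =
    toVec (-4 :: List.replicate 22 0 ++ [4]) p := by
  revert p; decide +kernel

theorem ncard_orbit_le : (MulAction.orbit centT baseM).ncard ≤ 105 := by
  have hsub : MulAction.orbit centT baseM ⊆
      {x : leechLattice | sqNorm (coordVec x) = 32 ∧ dotInt (toVec Data.weight) (coordVec x) = 4864} := by
    rintro _ ⟨⟨g, hg, hc⟩, rfl⟩
    set x := g • baseM
    obtain ⟨hu, hP⟩ := Subgroup.mem_inf.1 hg
    have hn : sqNorm (coordVec x) = 32 := (sqNorm_smul' g baseM).trans (by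
      rw [show baseM = fourPair ptP ptQ false true from rfl, sqNorm_fourPair ptP_ne_ptQ])
    have h1 : dotInt (coordVec baseP) (coordVec x) = 0 := by
      conv_lhs => rw [← MulAction.mem_stabilizer_iff.1 hP]
      rw [dot_smul_eq, ← toVec_listP, show coordVec baseM = toVec _ from funext coordVec_baseM']
      decide +kernel
    have h2 : dotInt (toVec listB') (coordVec x) = 16 := by
      rw [coord_sub_base]
      conv_lhs => rw [← MulAction.mem_stabilizer_iff.1 hu, ← MulAction.mem_stabilizer_iff.1 hP]
      have e : coordVec (g • vecU) - coordVec (g • baseP) = coordVec (g • (vecU - baseP)) := by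
        conv_lhs => rw [show g • vecU = g • (vecU - baseP) + g • baseP by rw [← smul_add_co0, sub_add_cancel]]
        rw [coordVec_add', add_sub_cancel_right]
      rw [e, dot_smul_eq]
      rw [show coordVec (vecU - baseP) = toVec listB' from coord_sub_base.symm,
        show coordVec baseM = toVec _ from funext coordVec_baseM']
      decide +kernel
    have hTM : invT • baseM = baseM := by
      rw [invT_eq]
      refine leech_ext fun p => ?_
      rw [coordVec_permAut, sigma_symm, coordVec_baseM', coordVec_baseM']
      revert p; decide +kernel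
    have h3 : ∀ p, coordVec x (pt (Golay.tblAt (Data.orb 0) (idx p))) = coordVec x p := fun p => by
      have e : invT • x = x := by
        rw [show x = g • baseM from rfl, ← mul_smul,
          ← Subgroup.mem_centralizer_singleton_iff.1 hc, mul_smul, hTM]
      rw [← sigma_symm, ← coordVec_permAut, ← invT_eq, e]
    refine ⟨hn, ?_⟩
    -- the weight is a combination of the two vectors and of differences killed by the fixed vectors
    have key : ∀ p, 2 * toVec Data.weight p =
        2 * 559 * toVec listP p + 2 * 304 * toVec listB' p +
        ((toVec Data.weight p - 559 * toVec listP p - 304 * toVec listB' p) -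
          (toVec Data.weight (pt (Golay.tblAt (Data.orb 0) (idx p))) -
            559 * toVec listP (pt (Golay.tblAt (Data.orb 0) (idx p))) -
            304 * toVec listB' (pt (Golay.tblAt (Data.orb 0) (idx p))))) := by
      decide +kernel
    set D : GolayPt → ℤ := fun p => toVec Data.weight p - 559 * toVec listP p - 304 * toVec listB' p
    have hD : ∑ p, (D p - D (pt (Golay.tblAt (Data.orb 0) (idx p)))) * coordVec x p = 0 := by
      rw [Finset.sum_congr rfl fun p _ => sub_mul _ _ _, Finset.sum_sub_distrib, sub_eq_zero]
      refine Finset.sum_equiv ((sigma : Equiv.Perm GolayPt)) (fun _ => by simp) fun p _ => ?_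
      show D p * coordVec x p = D (pt (Golay.tblAt (Data.orb 0) (idx ((sigma : Equiv.Perm GolayPt) p)))) *
        coordVec x ((sigma : Equiv.Perm GolayPt) p)
      rw [← sigma_symm, Equiv.symm_apply_apply, ← h3 ((sigma : Equiv.Perm GolayPt) p), ← sigma_symm,
        Equiv.symm_apply_apply]
    rw [← toVec_listP] at h1
    simp only [dotInt] at h1 h2 ⊢
    have : 2 * ∑ p, toVec Data.weight p * coordVec x p = 2 * 4864 := by
      rw [Finset.mul_sum]
      calc ∑ p, 2 * (toVec Data.weight p * coordVec x p)
          = ∑ p, (2 * 559 * (toVec listP p * coordVec x p) + 2 * 304 * (toVec listB' p * coordVec x p)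
            + (D p - D (pt (Golay.tblAt (Data.orb 0) (idx p)))) * coordVec x p) :=
            Finset.sum_congr rfl fun p _ => by
              linear_combination (coordVec x p) * key p
        _ = _ := by
            rw [Finset.sum_add_distrib, Finset.sum_add_distrib, ← Finset.mul_sum, ← Finset.mul_sum,
              hD, h1, h2]
            norm_num
    exact mul_left_cancel₀ two_ne_zero this
  refine le_trans (Set.ncard_le_ncard hsub
    (minimal_finite fun x => dotInt (toVec Data.weight) (coordVec x) = 4864)) ?_
  have h := ncard_dots (B := Data.bound) (W := Data.weight) (Wb := Data.weightB) (by decide +kernel)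
    (by decide +kernel) (by decide +kernel) [4864] (by decide +kernel) (tb := [86144])
    (by decide +kernel) [105] rfl (by decide +kernel) (by decide +kernel)
  simp only [List.map_cons, List.map_nil, List.cons.injEq, and_true] at h
  rw [← ncard_mem_sep fun x => sqNorm x = 32 ∧ dotInt (toVec Data.weight) x = 4864, h]

theorem card_centT_le : Nat.card centT ≤ 40320 := by
  have := finite_Co0
  rw [← Subgroup.card_mul_index (MulAction.stabilizer centT baseM), MulAction.index_stabilizer]
  suffices h : Nat.card (MulAction.stabilizer centT baseM) ≤ 384 from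
    (Nat.mul_le_mul h ncard_orbit_le).trans (by norm_num)
  have hmem : ∀ g : MulAction.stabilizer centT baseM,
      ∃ τ : M24, τ ∈ baseFix ⊓ Subgroup.centralizer ({sigma} : Set M24) ∧
        ((g.1 : centT) : Co0) = permAut τ := by
    rintro ⟨⟨g, hg, hc⟩, hgM⟩
    have hP : g • baseP = baseP := MulAction.mem_stabilizer_iff.1 (Subgroup.mem_inf.1 hg).2
    have hsum : baseP + baseM = axisVec none := by
      refine leech_ext fun p => ?_
      rw [coordVec_add', Pi.add_apply, coordVec_axisVec, coordVec_baseM', ← toVec_listP]
      revert p; decide +kernel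
    have hax : g • axisVec none = axisVec none := by
      rw [← hsum, smul_add_co0, hP, show g • baseM = baseM from hgM]
    obtain ⟨τ, hτ, rfl⟩ := GolayStructure.mono_fix_tri (Or.inl rfl)
      (GolayStructure.mem_monoGroup_of_axis (h := g) (by rw [hax, coordVec_axisVec, if_pos rfl])) hg
    refine ⟨τ, ⟨hτ, Subgroup.mem_centralizer_singleton_iff.2 ?_⟩, rfl⟩
    have hc' := Subgroup.mem_centralizer_singleton_iff.1 hc
    rw [invT_eq, ← permHom_apply, ← permHom_apply, ← map_mul, ← map_mul, permHom_apply,
      permHom_apply] at hc'
    exact (monomial_unique (d := 0) (d' := 0) (by rw [hc'])).2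
  choose f hf hfe using hmem
  exact (Nat.card_le_card_of_injective (fun g => (⟨f g, hf g⟩ :
      (baseFix ⊓ Subgroup.centralizer ({sigma} : Set M24) : Subgroup M24)))
    fun a b e => Subtype.ext (Subtype.ext ((hfe a).trans
      ((congrArg (fun z => permAut z) (congrArg Subtype.val e)).trans (hfe b).symm)))).trans card_cent_le

end CfsgLib.McLInv
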