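import Cfsg.Agent.Lib.McLInv.Centraliser

/-!
# The centraliser is a double cover of the alternating group of degree 8

Pairs of an automorphism and a permutation of eight points generate a group carrying the 105 fixed
vectors to 105 triples of permutations compatibly.
-/

set_option autoImplicit false

namespace CfsgLib.McLInv

open Cfsg CfsgLib.Fischer2 CfsgLib.Leech
open CfsgLib.GolayStructure (vecU coordVec_vecU leech_ext)
open scoped Pointwise commutatorElement

/-- The permutation with three-bit images as a function. -/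
def objFun (c : ℕ) (x : Fin 8) : Fin 8 := ⟨c / 8 ^ (x : ℕ) % 8, Nat.mod_lt _ (by norm_num)⟩

/-- The image function of a generator. -/
def imgFun (k : Fin 8) (x : Fin 8) : Fin 8 := (Data.imgs.getD k []).getD x 0

theorem imgFun_bij : ∀ k : Fin 8, ∀ x y : Fin 8, imgFun k x = imgFun k y → x = y := by decide +kernel

/-- The permutation of a generator. -/
noncomputable def imgPerm (k : Fin 8) : Equiv.Perm (Fin 8) :=
  Equiv.ofBijective (imgFun k) (Finite.injective_iff_bijective.1 fun _ _ h => imgFun_bij k _ _ h)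

/-- A concrete form of the permutations of the generators. -/
def imgSwaps : List (Equiv.Perm (Fin 8)) :=
  [Equiv.swap 0 1 * Equiv.swap 2 3, Equiv.swap 0 2 * Equiv.swap 1 3,
    Equiv.swap 0 1 * Equiv.swap 1 2, Equiv.swap 0 1 * Equiv.swap 1 3, Equiv.swap 0 1 * Equiv.swap 1 4,
    Equiv.swap 0 1 * Equiv.swap 1 5, Equiv.swap 0 1 * Equiv.swap 1 6, Equiv.swap 0 1 * Equiv.swap 1 7]

theorem imgPerm_eq (k : Fin 8) : imgPerm k = imgSwaps.getD k 1 := by
  refine Equiv.ext fun x => ?_
  show imgFun k x = _
  revert k x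
  decide +kernel

/-- The element of the alternating group of a generator. -/
noncomputable def imgAlt (k : Fin 8) : alternatingGroup (Fin 8) :=
  ⟨imgPerm k, by
    rw [imgPerm_eq, Equiv.Perm.mem_alternatingGroup]
    revert k
    decide +kernel⟩

/-- The matrix of a generator. -/
def genMat : Fin 8 → List (List ℤ) :=
  ![Data.mat0, Data.mat1, Data.mat2, Data.mat3, Data.mat4, Data.mat5, Data.mat6, Data.mat7]

theorem matOk_gen : ∀ k : Fin 8, matOk (genMat k) = true := by decide +kernel

/-- The automorphism of a generator. -/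
noncomputable def genAut (k : Fin 8) : Co0 := matAut (genMat k) (matOk_gen k)

/-- The entries of `vecU`. -/
def listU : List ℤ := List.replicate 23 1 ++ [5]

theorem toVec_listU : toVec listU = coordVec vecU := by
  funext p; rw [coordVec_vecU]; revert p; decide +kernel

theorem gen_comm : ∀ k : Fin 8, sameOn Data.matT (genMat k) (genMat k) Data.matT = true := by
  decide +kernel

theorem genAut_mem (k : Fin 8) : genAut k ∈ centT := by
  refine Subgroup.mem_inf.2 ⟨Subgroup.mem_inf.2 ⟨?_, ?_⟩, ?_⟩
  · exact MulAction.mem_stabilizer_iff.2 (matAut_fixes _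
      ((show ∀ k : Fin 8, fixOk (genMat k) listU = true by decide +kernel) k) toVec_listU)
  · exact MulAction.mem_stabilizer_iff.2 (matAut_fixes _
      ((show ∀ k : Fin 8, fixOk (genMat k) listP = true by decide +kernel) k) toVec_listP)
  · refine Subgroup.mem_centralizer_singleton_iff.2 ?_
    exact (mul_eq_of_sameOn (A := Data.matT) (B := genMat k) (C := genMat k) (D := Data.matT)
      matOk_T (matOk_gen k) (matOk_gen k) matOk_T (gen_comm k)).symm

theorem genAut_zero_sq : genAut 0 * genAut 0 = invT := by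
  rw [← mul_one invT, ← matAut_one]
  exact mul_eq_of_sameOn _ _ _ _ (by decide +kernel)

theorem imgAlt_zero_sq : imgAlt 0 * imgAlt 0 = 1 := by
  refine Subtype.ext ?_
  show imgPerm 0 * imgPerm 0 = 1
  rw [imgPerm_eq]
  decide +kernel

theorem invT_comm : invT ∈ ⁅centT, centT⁆ := by
  have h : genAut 0 * genAut 1 = invT * (genAut 1 * genAut 0) := by
    refine co0_eq_of_gens fun L hL x hx => leech_ext fun p => ?_
    have hl := length_gensList_mem hL
    simp only [mul_smul, genAut, invT]
    rw [← coordVec_smul_list (matOk_gen 0) (length_ap8 (matOk_gen 1) L)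
        (coordVec_smul_list (matOk_gen 1) hl hx.symm),
      ← coordVec_smul_list matOk_T (length_ap8 (matOk_gen 1) _)
        (coordVec_smul_list (matOk_gen 1) (length_ap8 (matOk_gen 0) L)
          (coordVec_smul_list (matOk_gen 0) hl hx.symm))]
    rw [(show ∀ L ∈ gensList, ap8 (genMat 0) (ap8 (genMat 1) L) =
      ap8 Data.matT (ap8 (genMat 1) (ap8 (genMat 0) L)) by decide +kernel) L hL]
  have e : ⁅genAut 0, genAut 1⁆ = invT := by
    rw [commutatorElement_def, h]; group
  rw [← e]
  exact Subgroup.commutator_mem_commutator (genAut_mem 0) (genAut_mem 1)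

/-! ### The correspondence -/

/-- The list of a fixed vector. -/
def fixList (i : Fin 105) : List ℤ := Data.fixVecs.getD i []

theorem fixList_mem : ∀ i : Fin 105, memTest (fixList i) = true := by decide +kernel

/-- A fixed vector. -/
def fixVec (i : Fin 105) : leechLattice := ofList (fixList i) (fixList_mem i)

theorem fixVec_injective : Function.Injective fixVec := by
  intro i j h
  have e : toVec (fixList i) = toVec (fixList j) := congrArg coordVec h
  have key : ∀ i j : Fin 105, (∀ t : Fin 24, (fixList i).getD t 0 = (fixList j).getD t 0) → i = j := by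
    decide +kernel
  refine key i j fun t => ?_
  have := congrFun e (Golay.pt t)
  simpa only [toVec, Golay.idx_pt t.2] using this

/-- The triple of a fixed vector. -/
def obj (i : Fin 105) : List ℕ := Data.objs.getD i []

/-- Compatibility with the correspondence. -/
def Compat (a : alternatingGroup (Fin 8)) (g : Co0) : Prop :=
  ∀ i, ∃ j, g • fixVec i = fixVec j ∧ ∀ s ∈ obj i, ∃ s' ∈ obj j, ∀ x,
    (a : Equiv.Perm (Fin 8)) (objFun s x) = objFun s' ((a : Equiv.Perm (Fin 8)) x)

theorem Compat.one : Compat 1 1 := fun i =>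
  ⟨i, one_smul _ _, fun s hs => ⟨s, hs, fun _ => rfl⟩⟩

theorem Compat.mul {a b : alternatingGroup (Fin 8)} {g h : Co0} (ha : Compat a g) (hb : Compat b h) :
    Compat (a * b) (g * h) := by
  intro i
  obtain ⟨j, hj, hjs⟩ := hb i
  obtain ⟨k, hk, hks⟩ := ha j
  refine ⟨k, by rw [mul_smul, hj, hk], fun s hs => ?_⟩
  obtain ⟨s', hs', e'⟩ := hjs s hs
  obtain ⟨s'', hs'', e''⟩ := hks s' hs'
  refine ⟨s'', hs'', fun x => ?_⟩
  rw [Subgroup.coe_mul, Equiv.Perm.mul_apply, e', e'', Equiv.Perm.mul_apply]

/-- The image of a fixed vector under a generator, tabulated. -/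
def nextIdx (k : Fin 8) (i : Fin 105) : Fin 105 :=
  ⟨Data.next (105 * k + i) % 105, Nat.mod_lt _ (by norm_num)⟩

/-- The check of one generator on one fixed vector. -/
def stepOk (k : Fin 8) (i : Fin 105) : Bool :=
  (ap8 (genMat k) (fixList i) == fixList (nextIdx k i)) && (fixList i).length == 24 &&
    (obj i).all fun s => (obj (nextIdx k i)).any fun s' =>
      (List.finRange 8).all fun x => imgFun k (objFun s x) == objFun s' (imgFun k x)

theorem steps_ok : ∀ k : Fin 8, ∀ i : Fin 105, stepOk k i = true := by decide +kernel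

theorem compat_gen (k : Fin 8) : Compat (imgAlt k) (genAut k) := by
  intro i
  have h := steps_ok k i
  simp only [stepOk, Bool.and_eq_true, List.all_eq_true, List.any_eq_true, beq_iff_eq] at h
  obtain ⟨⟨h1, h2⟩, h3⟩ := h
  refine ⟨nextIdx k i, ?_, fun s hs => ?_⟩
  · refine leech_ext fun p => ?_
    show coordVec (matAut (genMat k) (matOk_gen k) • fixVec i) p = toVec (fixList (nextIdx k i)) p
    rw [← coordVec_smul_list (matOk_gen k) h2 (x := fixVec i) rfl, h1]
  · obtain ⟨s', hs', e⟩ := h3 s hs
    exact ⟨s', hs', fun x => e x (List.mem_finRange x)⟩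

/-- The group of pairs. -/
noncomputable def pairGroup : Subgroup (alternatingGroup (Fin 8) × Co0) :=
  Subgroup.closure (Set.range fun k => (imgAlt k, genAut k))

theorem compat_mem {x : alternatingGroup (Fin 8) × Co0} (hx : x ∈ pairGroup) : Compat x.1 x.2 := by
  have := finite_Co0
  induction hx using Subgroup.closure_induction'' with
  | one => exact Compat.one
  | mem y hy => obtain ⟨k, rfl⟩ := hy; exact compat_gen k
  | inv_mem y hy =>
    obtain ⟨k, rfl⟩ := hy
    have hpow : ∀ e : ℕ, Compat ((imgAlt k, genAut k) ^ e : alternatingGroup (Fin 8) × Co0).1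
        ((imgAlt k, genAut k) ^ e : alternatingGroup (Fin 8) × Co0).2 := by
      intro e
      induction e with
      | zero => exact Compat.one
      | succ e ih => rw [pow_succ]; exact ih.mul (compat_gen k)
    obtain ⟨e, he⟩ := (mem_powers_iff_mem_zpowers (x := ((imgAlt k, genAut k) : _ × Co0))).2
      (Subgroup.inv_mem _ (Subgroup.mem_zpowers _))
    rw [← he]
    exact hpow e
  | mul y z _ _ hy hz => exact hy.mul hz

theorem snd_mem {x : alternatingGroup (Fin 8) × Co0} (hx : x ∈ pairGroup) : x.2 ∈ centT := by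
  have : pairGroup ≤ centT.comap (MonoidHom.snd _ _) := by
    rw [pairGroup, Subgroup.closure_le]
    rintro _ ⟨k, rfl⟩
    exact genAut_mem k
  exact this hx

theorem closure_img : Subgroup.closure (Set.range imgAlt) = ⊤ := by
  set H := (Subgroup.closure (Set.range imgAlt)).map (alternatingGroup (Fin 8)).subtype with hH
  have hgen : ∀ k : Fin 8, imgSwaps.getD k 1 ∈ H := fun k =>
    ⟨imgAlt k, Subgroup.subset_closure ⟨k, rfl⟩, imgPerm_eq k⟩
  have hword : ∀ a b : Fin 8, a ≠ b → Equiv.swap a b * Equiv.swap 0 1 =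
      ((Data.words.getD (8 * a + b) []).map fun j : Fin 6 => imgSwaps.getD (j + 2) 1).prod := by
    decide +kernel
  have hpair : ∀ a b : Fin 8, a ≠ b → Equiv.swap a b * Equiv.swap 0 1 ∈ H := fun a b hab => by
    rw [hword a b hab]
    refine H.list_prod_mem fun y hy => ?_
    obtain ⟨j, -, rfl⟩ := List.mem_map.1 hy
    exact hgen ⟨j + 2, by omega⟩
  have hle : alternatingGroup (Fin 8) ≤ H := by
    rw [← Equiv.Perm.closure_three_cycles_eq_alternating, Subgroup.closure_le]
    intro σ hσ
    have h3 : Equiv.Perm.IsThreeCycle σ := hσ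
    obtain ⟨p, hp⟩ : σ.support.Nonempty := Finset.card_pos.1 (by rw [h3.card_support]; norm_num)
    have hnd := h3.nodup_iff_mem_support.2 hp
    have hσe := h3.eq_swap_mul_swap_iff_mem_support.2 hp
    simp only [List.nodup_cons, List.mem_cons, List.not_mem_nil, or_false, not_or] at hnd
    rw [Equiv.swap_comm p (σ p)] at hσe
    obtain ⟨a, b, c, hab, hac, rfl⟩ : ∃ a b c : Fin 8, a ≠ b ∧ a ≠ c ∧
        σ = Equiv.swap a b * Equiv.swap a c :=
      ⟨σ p, p, σ (σ p), Ne.symm hnd.1.1, hnd.2.1, hσe⟩
    have e : Equiv.swap a b * Equiv.swap a c =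
        (Equiv.swap a b * Equiv.swap 0 1) * (Equiv.swap a c * Equiv.swap 0 1)⁻¹ := by
      rw [mul_inv_rev, Equiv.swap_inv, Equiv.swap_inv]
      simp [mul_assoc]
    rw [SetLike.mem_coe, e]
    exact mul_mem (hpair a b hab) (inv_mem (hpair a c hac))
  refine Subgroup.map_injective (alternatingGroup (Fin 8)).subtype_injective ?_
  rw [← MonoidHom.range_eq_map, Subgroup.range_subtype]
  exact le_antisymm (Subgroup.map_subtype_le _) hle

theorem fst_top : pairGroup.map (MonoidHom.fst _ _) = ⊤ := by
  rw [pairGroup, MonoidHom.map_closure, ← closure_img, ← Set.range_comp]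
  rfl

/-- Only the identity fixes every triple. -/
theorem eq_one_of_fixing {a : alternatingGroup (Fin 8)} (h : (a, (1 : Co0)) ∈ pairGroup) : a = 1 := by
  set N : Subgroup (alternatingGroup (Fin 8)) := pairGroup.comap (MonoidHom.inl _ _)
  have hNn : N.Normal := ⟨fun s hs r => by
    obtain ⟨x, hx, hxr⟩ : r ∈ pairGroup.map (MonoidHom.fst _ _) := fst_top ▸ Subgroup.mem_top r
    have := pairGroup.mul_mem (pairGroup.mul_mem hx hs) (pairGroup.inv_mem hx)
    rw [Subgroup.mem_comap, MonoidHom.inl_apply]
    convert this using 1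
    refine Prod.ext ?_ ?_ <;> simp [← hxr]⟩
  have := alternatingGroup.isSimpleGroup (α := Fin 8) (by simp)
  rcases hNn.eq_bot_or_eq_top with hN | hN
  · have : a ∈ N := h
    rwa [hN, Subgroup.mem_bot] at this
  · exfalso
    obtain ⟨k, i, s, hs, hmove⟩ : ∃ k : Fin 8, ∃ i : Fin 105, ∃ s ∈ obj i, ¬ ∃ s' ∈ obj i,
        ∀ x, imgFun k (objFun s x) = objFun s' (imgFun k x) := by
      decide +kernel
    have hk : (imgAlt k, (1 : Co0)) ∈ pairGroup :=
      show imgAlt k ∈ N from hN ▸ Subgroup.mem_top _
    obtain ⟨j, hj, hjs⟩ := compat_mem hk i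
    rw [one_smul] at hj
    obtain rfl := fixVec_injective hj
    exact hmove (hjs s hs)

/-- The homomorphism to the alternating group, with its kernel. -/
theorem exists_hom : ∃ φ : centT →* alternatingGroup (Fin 8), Function.Surjective φ ∧
    ∀ g, φ g = 1 ↔ (g : Co0) = 1 ∨ (g : Co0) = invT := by
  classical
  have := finite_Co0
  let ψ : pairGroup →* centT :=
    ((MonoidHom.snd _ _).comp pairGroup.subtype).codRestrict centT fun x => snd_mem x.2
  let π : pairGroup →* alternatingGroup (Fin 8) := (MonoidHom.fst _ _).comp pairGroup.subtype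
  have hinj : Function.Injective ψ := by
    rw [← MonoidHom.ker_eq_bot_iff, Subgroup.eq_bot_iff_forall]
    rintro ⟨⟨a, g⟩, hx⟩ h
    have hg : g = 1 := congrArg Subtype.val (MonoidHom.mem_ker.1 h)
    subst hg
    exact Subtype.ext (Prod.ext (eq_one_of_fixing hx) rfl)
  have hπ : Function.Surjective π := fun r => by
    obtain ⟨x, hx, hxr⟩ : r ∈ pairGroup.map (MonoidHom.fst _ _) := fst_top ▸ Subgroup.mem_top r
    exact ⟨⟨x, hx⟩, hxr⟩
  have hT : ((1 : alternatingGroup (Fin 8)), invT) ∈ pairGroup := by
    have := pairGroup.mul_mem (Subgroup.subset_closure ⟨0, rfl⟩ : (imgAlt 0, genAut 0) ∈ pairGroup)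
      (Subgroup.subset_closure ⟨0, rfl⟩)
    rwa [Prod.mk_mul_mk, genAut_zero_sq, imgAlt_zero_sq] at this
  have hker : 2 ≤ Nat.card π.ker := by
    refine (Finite.one_lt_card_iff_nontrivial.2 ⟨⟨⟨⟨_, hT⟩, rfl⟩, 1, fun e => invT_ne_one ?_⟩⟩)
    exact congrArg (fun z : π.ker => z.1.1.2) e
  have hA : Nat.card (alternatingGroup (Fin 8)) = 20160 := by
    rw [nat_card_alternatingGroup, Nat.card_eq_fintype_card, Fintype.card_fin]; decide
  have hcard : Nat.card π.ker * 20160 = Nat.card pairGroup := by
    rw [← hA, ← Subgroup.card_mul_index π.ker, Subgroup.index_ker, MonoidHom.range_eq_top.2 hπ,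
      Subgroup.card_top]
  have hle := Nat.card_le_card_of_injective ψ hinj
  have hcT := card_centT_le
  have hbij : Function.Bijective ψ := hinj.bijective_of_nat_card_le (by omega)
  have hk2 : Nat.card π.ker = 2 := by omega
  let e := MulEquiv.ofBijective ψ hbij
  refine ⟨π.comp e.symm.toMonoidHom, hπ.comp e.symm.surjective, fun g => ?_⟩
  obtain ⟨x, rfl⟩ := e.surjective g
  rw [MonoidHom.comp_apply, MulEquiv.coe_toMonoidHom, MulEquiv.symm_apply_apply]
  constructor
  · intro hx
    have hne : (⟨⟨_, hT⟩, rfl⟩ : π.ker) ≠ 1 := fun c => invT_ne_one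
      (congrArg (fun z : π.ker => z.1.1.2) c)
    obtain ⟨a, b, hab, huniv⟩ := Nat.card_eq_two_iff.1 hk2
    have h1 := huniv.ge (Set.mem_univ (1 : π.ker))
    have h2 := huniv.ge (Set.mem_univ (⟨⟨_, hT⟩, rfl⟩ : π.ker))
    have h3 := huniv.ge (Set.mem_univ (⟨x, hx⟩ : π.ker))
    simp only [Set.mem_insert_iff, Set.mem_singleton_iff] at h1 h2 h3
    have : (⟨x, hx⟩ : π.ker) = 1 ∨ (⟨x, hx⟩ : π.ker) = ⟨⟨_, hT⟩, rfl⟩ := by
      rcases h3 with h3 | h3 <;> rcases h1 with h1 | h1 <;> rcases h2 with h2 | h2 <;>
        first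
          | exact Or.inl (h3.trans h1.symm)
          | exact Or.inr (h3.trans h2.symm)
          | exact absurd (h2.trans h1.symm) hne
    rcases this with h | h
    · exact Or.inl (congrArg (fun z : π.ker => z.1.1.2) h)
    · exact Or.inr (congrArg (fun z : π.ker => z.1.1.2) h)
  · intro hx
    rcases hx with hx | hx
    · rw [show x = 1 from hinj (Subtype.ext (hx.trans (by simp))), map_one]
    · rw [show x = ⟨_, hT⟩ from hinj (Subtype.ext hx)]
      rfl

end CfsgLib.McLInv
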