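import Cfsg.Agent.Lib.McLInv.Cover
import Cfsg.Prelude.Def_Spor_Conway
import Cfsg.Prelude.Def_SporadicB

/-!
# The McLaughlin group has one class of involutions, with centraliser `2.A₈`
-/

set_option autoImplicit false

namespace CfsgLib.McLInv

open Cfsg CfsgLib.Fischer2 CfsgLib.Leech CfsgLib.FusionSub.Mathieu
open CfsgLib.GolayStructure (baseFix triGroup vecU coordVec_vecU coordVec_baseP leech_ext)
open scoped Pointwise commutatorElement

/-- The group is the McLaughlin group of the definitions. -/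
noncomputable def mclEquiv : mclGroup ≃* Cfsg.Spor.McL :=
  (Subgroup.equivMapOfInjective _ _ Co0.subtype_injective).trans <| MulEquiv.subgroupCongr <| by
    have hneg : Cfsg.Spor.leechV = -vecU := by
      refine leech_ext fun p => ?_
      show Cfsg.Spor.vecV p = -coordVec vecU p
      rw [coordVec_vecU, Cfsg.Spor.vecV]
      split_ifs <;> norm_num
    have hUP : Cfsg.Spor.leechU = baseP := by
      refine leech_ext fun p => ?_
      show Cfsg.Spor.vecU p = coordVec baseP p
      rw [coordVec_baseP, Cfsg.Spor.vecU]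
      rfl
    ext g
    simp only [Cfsg.Spor.McL, Cfsg.Spor.Co3, Subgroup.mem_inf, MulAction.mem_stabilizer_iff,
      Subgroup.mem_map, Subgroup.coe_subtype]
    constructor
    · rintro ⟨x, ⟨hx, hy⟩, rfl⟩
      refine ⟨⟨x.2, ?_⟩, hUP ▸ hy⟩
      rw [hneg]
      exact (smul_neg_co0 x vecU).trans (congrArg Neg.neg hx)
    · rintro ⟨⟨hg, hv⟩, hu⟩
      refine ⟨⟨g, hg⟩, ⟨?_, hUP ▸ hu⟩, rfl⟩
      exact neg_injective ((smul_neg_co0 ⟨g, hg⟩ vecU).symm.trans (hneg ▸ hv))

theorem invT_mem : invT ∈ mclGroup := by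
  rw [invT_eq]
  exact GolayStructure.permAut_mem_tri (Or.inl rfl) sigma_mem

/-- The involution as an element of the group. -/
noncomputable def invMcl : mclGroup := ⟨invT, invT_mem⟩

theorem orderOf_invMcl : orderOf invMcl = 2 :=
  orderOf_eq_prime (Subtype.ext (by rw [pow_two]; exact invT_mul_self))
    fun e => invT_ne_one (congrArg Subtype.val e)

/-- Every involution is conjugate to the chosen one. -/
theorem isConj_invMcl {x : mclGroup} (hx : orderOf x = 2) : IsConj invMcl x := by
  have := finite_Co0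
  have : Fact (Nat.Prime 2) := ⟨Nat.prime_two⟩
  set Q : Subgroup mclGroup := FusionExamples.McL.sylTwo.subgroupOf mclGroup
  have hQ : Nat.card Q = 2 ^ 7 := by
    rw [Nat.card_congr (Subgroup.subgroupOfEquivOfLe FusionExamples.McL.sylTwo_le).toEquiv,
      FusionExamples.McL.card_sylTwo]
  have hidx : ¬ 2 ∣ Q.index := by
    have h := Q.card_mul_index
    rw [hQ, GolayStructure.natCard_triGroup_baseP] at h
    omega
  let S : Sylow 2 mclGroup := (IsPGroup.of_card hQ).toSylow hidx
  have hxp : IsPGroup 2 (Subgroup.zpowers x) :=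
    IsPGroup.of_card (n := 1) (by rw [Nat.card_zpowers, hx, pow_one])
  obtain ⟨P, hP⟩ := hxp.exists_le_sylow
  obtain ⟨g, hg⟩ := MulAction.exists_smul_eq mclGroup P S
  have hy : g * x * g⁻¹ ∈ Q := by
    have h1 : g * x * g⁻¹ ∈ (g • P : Sylow 2 mclGroup) :=
      ⟨x, hP (Subgroup.mem_zpowers x), rfl⟩
    rw [hg] at h1
    exact h1
  obtain ⟨τ, hτ, hτe⟩ := Subgroup.mem_subgroupOf.1 hy
  have h2 : x * x = 1 := by rw [← pow_two, ← hx]; exact pow_orderOf_eq_one x
  have hinj : Function.Injective permHom := fun a b h =>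
    (monomial_unique (d := 0) (d' := 0) (by rw [← permHom_apply, h, permHom_apply])).2
  have hτ2 : τ * τ = 1 := hinj (by
    rw [map_mul, map_one, hτe, ← Subgroup.coe_mul,
      show g * x * g⁻¹ * (g * x * g⁻¹) = g * (x * x) * g⁻¹ by group, h2]
    simp)
  have hτ1 : τ ≠ 1 := fun e => by
    rw [e, map_one] at hτe
    have : g * x * g⁻¹ = 1 := Subtype.ext hτe.symm
    rw [conj_eq_one_iff] at this
    rw [this, orderOf_one] at hx
    norm_num at hx
  obtain ⟨c, hc, hce⟩ := conj_of_mem_grp (Subgroup.mem_subgroupOf.1 hτ) hτ2 hτ1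
  let c' : mclGroup := ⟨permAut c, GolayStructure.permAut_mem_tri (Or.inl rfl) hc⟩
  have e : c' * invMcl * c'⁻¹ = g * x * g⁻¹ := Subtype.ext (by
    rw [← hτe, ← hce, map_mul, map_mul, map_inv]
    show permAut c * invT * (permAut c)⁻¹ = _
    rw [invT_eq]
    rfl)
  exact (isConj_iff.2 ⟨c', e⟩).trans (isConj_iff.2 ⟨g⁻¹, by group⟩)

/-- The centraliser inside the group. -/
noncomputable def centEquiv : Subgroup.centralizer ({invMcl} : Set mclGroup) ≃* centT where
  toFun g := ⟨g.1.1, g.1.2, Subgroup.mem_centralizer_singleton_iff.2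
    (congrArg Subtype.val (Subgroup.mem_centralizer_singleton_iff.1 g.2))⟩
  invFun g := ⟨⟨g.1, g.2.1⟩, Subgroup.mem_centralizer_singleton_iff.2
    (Subtype.ext (Subgroup.mem_centralizer_singleton_iff.1 g.2.2))⟩
  left_inv g := rfl
  right_inv g := rfl
  map_mul' a b := rfl

theorem isNonsplit_centT : Cfsg.IsNonsplitDoubleCover centT (alternatingGroup (Fin 8)) := by
  have := finite_Co0
  obtain ⟨φ, hφ, hker⟩ := exists_hom
  have hTc : invT ∈ centT := Subgroup.mem_inf.2 ⟨invT_mem, Subgroup.mem_centralizer_singleton_iff.2 rfl⟩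
  have hTZ : (⟨invT, hTc⟩ : centT) ∈ Subgroup.center centT := Subgroup.mem_center_iff.2 fun g =>
    Subtype.ext (Subgroup.mem_centralizer_singleton_iff.1 g.2.2)
  have hZ : Subgroup.center centT = φ.ker := by
    refine le_antisymm (fun z hz => MonoidHom.mem_ker.2 ?_) fun z hz => ?_
    · have : φ z ∈ Subgroup.center (alternatingGroup (Fin 8)) := Subgroup.mem_center_iff.2 fun a => by
        obtain ⟨g, rfl⟩ := hφ a
        rw [← map_mul, ← map_mul, Subgroup.mem_center_iff.1 hz g]
      rw [alternatingGroup.center_eq_bot (by simp)] at this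
      exact this
    · rcases (hker z).1 hz with h | h
      · rw [show z = 1 from Subtype.ext h]; exact one_mem _
      · rw [show z = ⟨invT, hTc⟩ from Subtype.ext h]; exact hTZ
  refine ⟨?_, ⟨?_⟩, fun L hL => ?_⟩
  · rw [hZ, Nat.card_eq_two_iff]
    refine ⟨1, ⟨⟨invT, hTc⟩, (hker _).2 (Or.inr rfl)⟩, fun e => invT_ne_one ?_, ?_⟩
    · exact (congrArg (fun z : φ.ker => (z.1 : Co0)) e).symm
    · rw [Set.eq_univ_iff_forall]
      rintro ⟨z, hz⟩
      rcases (hker z).1 hz with h | h
      · exact Or.inl (Subtype.ext (Subtype.ext h))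
      · exact Or.inr (Subtype.ext (Subtype.ext h))
  · exact (QuotientGroup.quotientMulEquivOfEq hZ).trans
      (QuotientGroup.quotientKerEquivOfSurjective φ hφ)
  · have hdec : ∀ g : centT, ∃ z ∈ Subgroup.center centT, ∃ l ∈ L, z * l = g := fun g => by
      obtain ⟨⟨⟨z, hz⟩, ⟨l, hl⟩⟩, e⟩ := hL.2 g
      exact ⟨z, hz, l, hl, e⟩
    have hle : commutator centT ≤ L := by
      rw [commutator_def, Subgroup.commutator_le]
      intro a _ b _
      obtain ⟨z, hz, l, hl, rfl⟩ := hdec a
      obtain ⟨w, hw, m, hm, rfl⟩ := hdec b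
      have ez : ∀ y, z * y * z⁻¹ = y := fun y => by
        rw [← Subgroup.mem_center_iff.1 hz y, mul_inv_cancel_right]
      have ew : ∀ y, w * y * w⁻¹ = y := fun y => by
        rw [← Subgroup.mem_center_iff.1 hw y, mul_inv_cancel_right]
      have : ⁅z * l, w * m⁆ = ⁅l, m⁆ := by
        rw [commutatorElement_def, commutatorElement_def]
        calc z * l * (w * m) * (z * l)⁻¹ * (w * m)⁻¹
            = (z * (l * (w * m) * l⁻¹) * z⁻¹) * (w * m)⁻¹ := by group
          _ = l * (w * m) * l⁻¹ * (w * m)⁻¹ := by rw [ez]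
          _ = l * w * (m * l⁻¹ * m⁻¹) * w⁻¹ := by group
          _ = w * (l * m * l⁻¹ * m⁻¹) * w⁻¹ := by rw [Subgroup.mem_center_iff.1 hw l]; group
          _ = l * m * l⁻¹ * m⁻¹ := ew _
      rw [this, commutatorElement_def]
      exact mul_mem (mul_mem (mul_mem hl hm) (inv_mem hl)) (inv_mem hm)
    have hmem : (⟨invT, hTc⟩ : centT) ∈ commutator centT := by
      have h : invT ∈ (commutator centT).map centT.subtype := by
        rw [commutator_def, Subgroup.map_commutator, ← MonoidHom.range_eq_map, Subgroup.range_subtype]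
        exact invT_comm
      obtain ⟨y, hy, hye⟩ := h
      rwa [show (⟨invT, hTc⟩ : centT) = y from Subtype.ext hye.symm]
    exact invT_ne_one (congrArg Subtype.val
      (Subgroup.disjoint_def.1 hL.disjoint hTZ (hle hmem)))

theorem isNonsplit_congr {H H' K : Type*} [Group H] [Group H'] [Group K] (e : H ≃* H')
    (h : Cfsg.IsNonsplitDoubleCover H K) : Cfsg.IsNonsplitDoubleCover H' K := by
  obtain ⟨h1, ⟨h2⟩, h3⟩ := h
  have hZ : (Subgroup.center H).map e.toMonoidHom = Subgroup.center H' := by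
    ext y
    obtain ⟨x, rfl⟩ := e.surjective y
    simp only [Subgroup.mem_map, MulEquiv.coe_toMonoidHom, Subgroup.mem_center_iff]
    constructor
    · rintro ⟨z, hz, hzx⟩ g
      obtain ⟨u, rfl⟩ := e.surjective g
      rw [← hzx, ← map_mul, ← map_mul, hz u]
    · exact fun hc => ⟨x, fun g => e.injective (by rw [map_mul, map_mul, hc (e g)]), rfl⟩
  refine ⟨?_, ⟨(QuotientGroup.congr _ _ e hZ).symm.trans h2⟩, fun L hL => h3 (L.comap e.toMonoidHom) ?_⟩
  · rw [← hZ, Subgroup.card_map_of_injective e.injective, h1]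
  · refine ⟨fun a b hab => ?_, fun g => ?_⟩
    · have := @hL.1 (⟨e a.1.1, hZ ▸ Subgroup.mem_map_of_mem _ a.1.2⟩, ⟨e a.2.1, a.2.2⟩)
        (⟨e b.1.1, hZ ▸ Subgroup.mem_map_of_mem _ b.1.2⟩, ⟨e b.2.1, b.2.2⟩)
        (by simpa only [← map_mul] using congrArg e hab)
      simp only [Prod.mk.injEq, Subtype.mk.injEq] at this
      exact Prod.ext (Subtype.ext (e.injective this.1)) (Subtype.ext (e.injective (congrArg Subtype.val this.2)))
    · obtain ⟨⟨⟨z, hz⟩, ⟨l, hl⟩⟩, hzl⟩ := hL.2 (e g)
      rw [← hZ] at hz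
      obtain ⟨z', hz', rfl⟩ := hz
      obtain ⟨l', rfl⟩ := e.surjective l
      exact ⟨(⟨z', hz'⟩, ⟨l', hl⟩), e.injective (by simpa using hzl)⟩

/-- The centraliser of an element corresponds under an isomorphism. -/
noncomputable def centralizerCongr {G G' : Type*} [Group G] [Group G'] (e : G ≃* G') (t : G) :
    Subgroup.centralizer ({t} : Set G) ≃* Subgroup.centralizer ({e t} : Set G') where
  toFun g := ⟨e g.1, Subgroup.mem_centralizer_singleton_iff.2 (by
    rw [← map_mul, ← map_mul, Subgroup.mem_centralizer_singleton_iff.1 g.2])⟩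
  invFun g := ⟨e.symm g.1, Subgroup.mem_centralizer_singleton_iff.2 (e.injective (by
    rw [map_mul, map_mul, e.apply_symm_apply, Subgroup.mem_centralizer_singleton_iff.1 g.2]))⟩
  left_inv g := Subtype.ext (e.symm_apply_apply _)
  right_inv g := Subtype.ext (e.apply_symm_apply _)
  map_mul' a b := Subtype.ext (map_mul e _ _)

theorem mcl_involution_centraliser :
    (∀ x y : Cfsg.Spor.McL, orderOf x = 2 → orderOf y = 2 → IsConj x y) ∧
      ∃ t : Cfsg.Spor.McL, orderOf t = 2 ∧ Cfsg.IsNonsplitDoubleCover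
        (Subgroup.centralizer ({t} : Set Cfsg.Spor.McL)) (alternatingGroup (Fin 8)) := by
  refine ⟨fun x y hx hy => ?_, mclEquiv invMcl, ?_, ?_⟩
  · obtain ⟨a, rfl⟩ := mclEquiv.surjective x
    obtain ⟨b, rfl⟩ := mclEquiv.surjective y
    rw [MulEquiv.orderOf_eq] at hx hy
    exact mclEquiv.toMonoidHom.map_isConj ((isConj_invMcl hx).symm.trans (isConj_invMcl hy))
  · rw [MulEquiv.orderOf_eq, orderOf_invMcl]
  · exact isNonsplit_congr (centralizerCongr mclEquiv invMcl)
      (isNonsplit_congr centEquiv.symm isNonsplit_centT)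

end CfsgLib.McLInv
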